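import Groth.Agent.NormFlatHilb.Specialize
import Groth.Agent.Ega4Algebra2.RegularImmersion
import Groth.Agent.QCohMod.Affine
import Groth.Agent.QCohMod.FiniteType
import Groth.Prelude.Def_EGA4b
import Groth.Prelude.Def_Coh

/-!
# The ranks of the graded pieces along a normally flat closed subscheme
-/

set_option autoImplicit false

universe u

open AlgebraicGeometry CategoryTheory TopologicalSpace IsLocalRing

noncomputable section

namespace Groth.NormFlatHilb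

/-- A function invariant under specialization on a locally Noetherian scheme is locally constant. -/
theorem isLocallyConstant_of_specializes {Y : Scheme.{u}} [IsLocallyNoetherian Y] {α : Type*} (f : Y → α)
    (h : ∀ y y' : Y, y ⤳ y' → f y = f y') : IsLocallyConstant f := by
  rw [IsLocallyConstant.iff_exists_open]
  intro y
  obtain ⟨V, hV, hyV, -⟩ := exists_isAffineOpen_mem_and_subset (U := (⊤ : Y.Opens)) (x := y) trivial
  haveI : IsNoetherianRing Γ(Y, V) := IsLocallyNoetherian.component_noetherian ⟨V, hV⟩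
  let g : Spec Γ(Y, V) → α := fun P => f (hV.fromSpec P)
  have hg : ∀ P Q : Spec Γ(Y, V), P ⤳ Q → g P = g Q := fun P Q hPQ =>
    h _ _ (hPQ.map hV.fromSpec.continuous)
  let bad := {η ∈ minimalPrimes Γ(Y, V) | ∀ hη : η.IsPrime, g ⟨η, hη⟩ ≠ f y}
  have hclosed : IsClosed (⋃ η ∈ bad, PrimeSpectrum.zeroLocus (η : Set Γ(Y, V))) :=
    Set.Finite.isClosed_biUnion ((minimalPrimes.finite_of_isNoetherianRing _).subset fun η h => h.1)
      fun η _ => PrimeSpectrum.isClosed_zeroLocus _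
  have hgood : ∀ P : Spec Γ(Y, V), P ∉ ⋃ η ∈ bad, PrimeSpectrum.zeroLocus (η : Set Γ(Y, V)) ↔ g P = f y := by
    intro P
    haveI := P.2
    obtain ⟨η, hη, hle⟩ := Ideal.exists_minimalPrimes_le (bot_le : ⊥ ≤ P.asIdeal)
    have hηp : η.IsPrime := Ideal.minimalPrimes_isPrime hη
    constructor
    · intro hP
      by_contra hne
      refine hP (Set.mem_biUnion (show η ∈ bad from ⟨hη, fun hη' he => hne ?_⟩) hle)
      rw [← hg ⟨η, hη'⟩ P ((PrimeSpectrum.le_iff_specializes ⟨η, hη'⟩ P).1 hle), he]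
    · intro hP hmem
      obtain ⟨η', ⟨hη', hne⟩, hle'⟩ := Set.mem_iUnion₂.1 hmem
      have hη'p : η'.IsPrime := Ideal.minimalPrimes_isPrime hη'
      exact hne hη'p ((hg ⟨η', hη'p⟩ P ((PrimeSpectrum.le_iff_specializes ⟨η', hη'p⟩ P).1 hle')).trans hP)
  refine ⟨hV.fromSpec '' (⋃ η ∈ bad, PrimeSpectrum.zeroLocus (η : Set Γ(Y, V)))ᶜ,
    hV.fromSpec.isOpenEmbedding.isOpenMap _ hclosed.isOpen_compl, ⟨hV.primeIdealOf ⟨y, hyV⟩, ?_, hV.fromSpec_primeIdealOf ⟨y, hyV⟩⟩, ?_⟩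
  · exact (hgood (hV.primeIdealOf ⟨y, hyV⟩)).2 (congrArg f (hV.fromSpec_primeIdealOf ⟨y, hyV⟩))
  · rintro _ ⟨P, hP, rfl⟩
    exact (hgood P).1 hP

variable {X : Scheme.{u}} [IsLocallyNoetherian X] (𝓘 : X.IdealSheafData) (F : X.Modules)

/-- `rk` at a point of the subscheme. -/
def rkAt (y : ↥𝓘.subscheme) (j : ℕ) : ℕ :=
  rk (A := X.presheaf.stalk (𝓘.subschemeι y)) (RingHom.ker (𝓘.subschemeι.stalkMap y).hom)
    (F.presheaf.stalk (𝓘.subschemeι y)) j

theorem rkAt_eq_of_specializes (hF : Coh.IsCoh F)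
    (hnf : ∀ y : ↥𝓘.subscheme, EGA4.IsNormallyFlat (RingHom.ker (𝓘.subschemeι.stalkMap y).hom) ↑(F.presheaf.stalk (𝓘.subschemeι y)))
    (j : ℕ) (y y' : ↥𝓘.subscheme) (hyy' : y ⤳ y') : rkAt 𝓘 F y j = rkAt 𝓘 F y' j := by
  haveI := hF.1
  obtain ⟨U, hU, hy'U, -⟩ := exists_isAffineOpen_mem_and_subset (U := (⊤ : X.Opens)) (x := 𝓘.subschemeι y') trivial
  have hspec : 𝓘.subschemeι y ⤳ 𝓘.subschemeι y' := hyy'.map 𝓘.subschemeι.continuous
  have hyU : 𝓘.subschemeι y ∈ U := hspec.mem_open U.2 hy'U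
  haveI : IsNoetherianRing Γ(X, U) := IsLocallyNoetherian.component_noetherian ⟨U, hU⟩
  haveI := Groth.QCohMod.finite_sections F hF.2 hU
  let I : Ideal Γ(X, U) := 𝓘.subschemeι.ker.ideal ⟨U, hU⟩
  letI := TopCat.Presheaf.algebra_section_stalk X.presheaf (⟨𝓘.subschemeι y, hyU⟩ : U)
  letI := TopCat.Presheaf.algebra_section_stalk X.presheaf (⟨𝓘.subschemeι y', hy'U⟩ : U)
  letI := Groth.QCohMod.stalkModule F (𝓘.subschemeι y) hyU
  letI := Groth.QCohMod.stalkModule F (𝓘.subschemeι y') hy'U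
  haveI : IsScalarTower Γ(X, U) (X.presheaf.stalk (𝓘.subschemeι y)) (F.presheaf.stalk (𝓘.subschemeι y)) :=
    IsScalarTower.of_algebraMap_smul fun _ _ => rfl
  haveI : IsScalarTower Γ(X, U) (X.presheaf.stalk (𝓘.subschemeι y')) (F.presheaf.stalk (𝓘.subschemeι y')) :=
    IsScalarTower.of_algebraMap_smul fun _ _ => rfl
  let q := (hU.primeIdealOf ⟨𝓘.subschemeι y, hyU⟩).asIdeal
  let p := (hU.primeIdealOf ⟨𝓘.subschemeι y', hy'U⟩).asIdeal
  haveI : IsLocalization.AtPrime (X.presheaf.stalk (𝓘.subschemeι y)) q := hU.isLocalization_stalk ⟨_, hyU⟩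
  haveI : IsLocalization.AtPrime (X.presheaf.stalk (𝓘.subschemeι y')) p := hU.isLocalization_stalk ⟨_, hy'U⟩
  haveI := Groth.QCohMod.isLocalizedModule_germ F hU (𝓘.subschemeι y) hyU
  haveI := Groth.QCohMod.isLocalizedModule_germ F hU (𝓘.subschemeι y') hy'U
  have hk : RingHom.ker (𝓘.subschemeι.stalkMap y).hom = I.map (algebraMap Γ(X, U) _) :=
    Groth.Ega4b.ker_stalkMap_eq_map 𝓘.subschemeι hU y hyU
  have hk' : RingHom.ker (𝓘.subschemeι.stalkMap y').hom = I.map (algebraMap Γ(X, U) _) :=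
    Groth.Ega4b.ker_stalkMap_eq_map 𝓘.subschemeι hU y' hy'U
  have hqp : q ≤ p := by
    refine (PrimeSpectrum.le_iff_specializes _ _).2 ?_
    refine hU.fromSpec.isOpenEmbedding.isInducing.specializes_iff.1 ?_
    rw [hU.fromSpec_primeIdealOf, hU.fromSpec_primeIdealOf]
    exact hspec
  have hI : I ≤ q := by
    have h := IsLocalRing.le_maximalIdeal (RingHom.ker_ne_top (𝓘.subschemeι.stalkMap y).hom)
    rw [hk, Ideal.map_le_iff_le_comap] at h
    exact h.trans (IsLocalization.AtPrime.comap_maximalIdeal (X.presheaf.stalk (𝓘.subschemeι y)) q).le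
  have hnf' := hnf y'
  rw [hk'] at hnf'
  unfold rkAt
  rw [hk, hk']
  exact rk_eq_of_le I p q hqp hI (Groth.QCohMod.germₗ F _ hy'U) (Groth.QCohMod.germₗ F _ hyU) hnf' j

theorem exists_numerator [ConnectedSpace ↥𝓘.subscheme]
    (hreg : ∀ y : ↥𝓘.subscheme, IsRegularLocalRing ↑(𝓘.subscheme.presheaf.stalk y))
    (hF : Coh.IsCoh F)
    (hnf : ∀ y : ↥𝓘.subscheme, EGA4.IsNormallyFlat (RingHom.ker (𝓘.subschemeι.stalkMap y).hom) ↑(F.presheaf.stalk (𝓘.subschemeι y))) :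
    ∃ R : ℕ → ℕ, ∀ (y : ↥𝓘.subscheme) (n : ℕ), ringKrullDim ↑(𝓘.subscheme.presheaf.stalk y) = n →
      ∀ h : ℕ, Module.finrank (↑(X.presheaf.stalk (𝓘.subschemeι y)) ⧸ IsLocalRing.maximalIdeal ↑(X.presheaf.stalk (𝓘.subschemeι y)))
          (↥(IsLocalRing.maximalIdeal ↑(X.presheaf.stalk (𝓘.subschemeι y)) ^ h • (⊤ : Submodule ↑(X.presheaf.stalk (𝓘.subschemeι y)) ↑(F.presheaf.stalk (𝓘.subschemeι y)))) ⧸
            (IsLocalRing.maximalIdeal ↑(X.presheaf.stalk (𝓘.subschemeι y)) • (⊤ : Submodule ↑(X.presheaf.stalk (𝓘.subschemeι y)) ↥(IsLocalRing.maximalIdeal ↑(X.presheaf.stalk (𝓘.subschemeι y)) ^ h • (⊤ : Submodule ↑(X.presheaf.stalk (𝓘.subschemeι y)) ↑(F.presheaf.stalk (𝓘.subschemeι y))))))) =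
        ∑ r ∈ Finset.range (h + 1), Nat.choose (r + n - 1) r * R (h - r) := by
  haveI : IsLocallyNoetherian 𝓘.subscheme := LocallyOfFiniteType.isLocallyNoetherian 𝓘.subschemeι
  obtain ⟨y₀⟩ := (inferInstance : Nonempty ↥𝓘.subscheme)
  have hconst : ∀ (j : ℕ) (y : ↥𝓘.subscheme), rkAt 𝓘 F y j = rkAt 𝓘 F y₀ j := fun j y =>
    (isLocallyConstant_of_specializes (fun y => rkAt 𝓘 F y j)
      (rkAt_eq_of_specializes 𝓘 F hF hnf j)).apply_eq_of_preconnectedSpace y y₀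
  refine ⟨rkAt 𝓘 F y₀, fun y n hn h => ?_⟩
  let x := 𝓘.subschemeι y
  let K := RingHom.ker (𝓘.subschemeι.stalkMap y).hom
  haveI := hF.1
  obtain ⟨U, hU, hxU, -⟩ := exists_isAffineOpen_mem_and_subset (U := (⊤ : X.Opens)) (x := x) trivial
  haveI : IsNoetherianRing Γ(X, U) := IsLocallyNoetherian.component_noetherian ⟨U, hU⟩
  haveI := Groth.QCohMod.finite_sections F hF.2 hU
  letI := TopCat.Presheaf.algebra_section_stalk X.presheaf (⟨x, hxU⟩ : U)
  letI := Groth.QCohMod.stalkModule F x hxU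
  haveI : IsScalarTower Γ(X, U) (X.presheaf.stalk x) (F.presheaf.stalk x) :=
    IsScalarTower.of_algebraMap_smul fun _ _ => rfl
  haveI := Groth.QCohMod.isLocalizedModule_germ F hU x hxU
  haveI : IsLocalization.AtPrime (X.presheaf.stalk x) (hU.primeIdealOf ⟨x, hxU⟩).asIdeal :=
    hU.isLocalization_stalk ⟨x, hxU⟩
  haveI : Module.Finite (X.presheaf.stalk x) (F.presheaf.stalk x) :=
    Module.Finite.of_isLocalizedModule (hU.primeIdealOf ⟨x, hxU⟩).asIdeal.primeCompl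
      (Rₚ := X.presheaf.stalk x) (Groth.QCohMod.germₗ F x hxU)
  haveI : IsNoetherianRing (X.presheaf.stalk x) :=
    IsLocalization.isNoetherianRing (hU.primeIdealOf ⟨x, hxU⟩).asIdeal.primeCompl _ inferInstance
  let e := RingHom.quotientKerEquivOfSurjective (f := (𝓘.subschemeι.stalkMap y).hom)
    (𝓘.subschemeι.stalkMap_surjective y)
  haveI := hreg y
  haveI : IsRegularLocalRing (X.presheaf.stalk x ⧸ K) := IsRegularLocalRing.of_ringEquiv e.symm
  obtain ⟨f, hm, hqr⟩ := exists_qr (A := X.presheaf.stalk x) (n := n) K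
    ((ringKrullDim_eq_of_ringEquiv e).trans hn)
  refine ((isNormallyFlat_iff hm hqr).1 (hnf y) h).trans (Finset.sum_congr rfl fun r _ => ?_)
  congr 1
  rw [← hconst (h - r) y]
  exact finrank_double (K_le hm) (h - r)

end Groth.NormFlatHilb
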