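import Groth.Agent.NormFlatHilb.Counting

/-!
# The ranks of `K^j M` along specializations, in the normally flat case
-/

set_option autoImplicit false

universe u

open IsLocalRing

namespace Groth.NormFlatHilb

theorem rk_eq_of_minGen {A : Type u} [CommRing A] [IsLocalRing A] {K : Ideal A} {M : Type u} [AddCommGroup M]
    [Module A M] {i c : ℕ} {g : Fin c → M} (hg : MinGen K M i g) : rk K M i = c := by
  classical
  let m := maximalIdeal A
  letI : Field (A ⧸ m) := Ideal.Quotient.field m
  let v : Fin c → V K M i := fun j => Submodule.Quotient.mk ⟨g j, hg.1 j⟩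
  have hli : LinearIndependent (A ⧸ m) v := by
    rw [Fintype.linearIndependent_iff]
    intro a ha j
    choose b hb using fun j => Ideal.Quotient.mk_surjective (a j)
    rw [← hb j, Ideal.Quotient.eq_zero_iff_mem]
    refine hg.2.2 b ?_ j
    have e : (∑ j, a j • v j) = Submodule.Quotient.mk (∑ j, b j • (⟨g j, hg.1 j⟩ : ↥(Kp K M i))) := by
      rw [← Submodule.mkQ_apply, map_sum]
      refine Finset.sum_congr rfl fun j _ => ?_
      rw [map_smul, ← hb j, ← Ideal.Quotient.algebraMap_eq, algebraMap_smul]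
      rfl
    rw [e, Submodule.Quotient.mk_eq_zero] at ha
    have := (SetLike.ext_iff.1 (Groth.Ega4b.smul_top_eq_comap m (Kp K M i)) _).1 ha
    rw [Submodule.mem_comap, Submodule.coe_subtype, Submodule.coe_sum] at this
    exact this
  have hspan : ⊤ ≤ Submodule.span (A ⧸ m) (Set.range v) := by
    intro z _
    obtain ⟨x, rfl⟩ := Submodule.Quotient.mk_surjective _ z
    obtain ⟨b, hb⟩ := Submodule.mem_span_range_iff_exists_fun A |>.1 (hg.2.1 x.2)
    have e : x = ∑ j, b j • (⟨g j, hg.1 j⟩ : ↥(Kp K M i)) := Subtype.ext (by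
      rw [Submodule.coe_sum]; exact hb.symm)
    rw [e, ← Submodule.mkQ_apply, map_sum]
    refine Submodule.sum_mem _ fun j _ => ?_
    rw [map_smul, ← algebraMap_smul (A ⧸ m) (b j)]
    exact Submodule.smul_mem _ _ (Submodule.subset_span ⟨j, rfl⟩)
  exact (Module.finrank_eq_card_basis (Module.Basis.mk hli hspan)).trans (Fintype.card_fin c)

variable {B : Type u} [CommRing B] (I : Ideal B) {N : Type u} [AddCommGroup N] [Module B N]

theorem map_mem_Kp {L : Type u} [CommRing L] [IsLocalRing L] [Algebra B L] {M : Type u} [AddCommGroup M]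
    [Module B M] [Module L M] [IsScalarTower B L M] (φ : N →ₗ[B] M) {j : ℕ} {x : N}
    (hx : x ∈ I ^ j • (⊤ : Submodule B N)) : φ x ∈ Kp (I.map (algebraMap B L)) M j := by
  induction hx using Submodule.smul_induction_on' with
  | smul r hr y _ =>
    rw [map_smul, ← algebraMap_smul L r]
    refine Submodule.smul_mem_smul ?_ Submodule.mem_top
    rw [← Ideal.map_pow]
    exact Ideal.mem_map_of_mem _ hr
  | add x _ y _ hx hy => rw [map_add]; exact add_mem hx hy

theorem exists_of_mem_Kp (p : Ideal B) [p.IsPrime] {L : Type u} [CommRing L] [IsLocalRing L] [Algebra B L]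
    [IsLocalization.AtPrime L p] {M : Type u} [AddCommGroup M] [Module B M] [Module L M] [IsScalarTower B L M]
    (φ : N →ₗ[B] M) [IsLocalizedModule p.primeCompl φ] {j : ℕ} {y : M}
    (hy : y ∈ Kp (I.map (algebraMap B L)) M j) :
    ∃ s : B, s ∉ p ∧ ∃ x ∈ I ^ j • (⊤ : Submodule B N), s • y = φ x := by
  induction hy using Submodule.smul_induction_on' with
  | smul r hr z _ =>
    rw [← Ideal.map_pow, IsLocalization.mem_map_algebraMap_iff p.primeCompl] at hr
    obtain ⟨⟨a, t⟩, hat⟩ := hr
    obtain ⟨⟨w, s⟩, hws⟩ := IsLocalizedModule.surj p.primeCompl φ z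
    refine ⟨t * s, p.primeCompl.mul_mem t.2 s.2, (a : B) • w, Submodule.smul_mem_smul a.2 Submodule.mem_top, ?_⟩
    have hws' : (s : B) • z = φ w := hws
    rw [map_smul, ← hws', mul_smul, smul_comm (s : B) r z, ← algebraMap_smul L (t : B), smul_smul,
      mul_comm, hat, algebraMap_smul]
  | add x _ y _ hx hy =>
    obtain ⟨s, hs, a, ha, hsa⟩ := hx
    obtain ⟨t, ht, b, hb, htb⟩ := hy
    refine ⟨s * t, p.primeCompl.mul_mem hs ht, t • a + s • b,
      add_mem (Submodule.smul_mem _ _ ha) (Submodule.smul_mem _ _ hb), ?_⟩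
    rw [map_add, map_smul, map_smul, ← hsa, ← htb, smul_smul, smul_smul, smul_add, mul_comm s t]

variable [IsNoetherianRing B] [Module.Finite B N]

/-- Under normal flatness at `p`, the rank of `K^j M` is the same at every generization containing `I`. -/
theorem rk_eq_of_le (p q : Ideal B) [p.IsPrime] [q.IsPrime] (hqp : q ≤ p) (hI : I ≤ q)
    {Lp Lq : Type u} [CommRing Lp] [CommRing Lq] [IsLocalRing Lp] [IsLocalRing Lq] [Algebra B Lp] [Algebra B Lq]
    [IsLocalization.AtPrime Lp p] [IsLocalization.AtPrime Lq q]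
    {Mp Mq : Type u} [AddCommGroup Mp] [AddCommGroup Mq] [Module B Mp] [Module B Mq] [Module Lp Mp] [Module Lq Mq]
    [IsScalarTower B Lp Mp] [IsScalarTower B Lq Mq]
    (φp : N →ₗ[B] Mp) [IsLocalizedModule p.primeCompl φp] (φq : N →ₗ[B] Mq) [IsLocalizedModule q.primeCompl φq]
    (hnf : EGA4.IsNormallyFlat (I.map (algebraMap B Lp)) Mp) (j : ℕ) :
    rk (I.map (algebraMap B Lq)) Mq j = rk (I.map (algebraMap B Lp)) Mp j := by
  haveI : IsNoetherianRing Lp := IsLocalization.isNoetherianRing p.primeCompl Lp inferInstance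
  haveI : Module.Finite Lp Mp := Module.Finite.of_isLocalizedModule p.primeCompl (Rₚ := Lp) φp
  have hK : I.map (algebraMap B Lp) ≤ maximalIdeal Lp := by
    rw [Ideal.map_le_iff_le_comap]
    exact (hI.trans hqp).trans (IsLocalization.AtPrime.comap_maximalIdeal Lp p).ge
  have hfree := (freeAt_iff_flat (M := Mp) hK j).2 (hnf j)
  obtain ⟨c, g, hg⟩ := exists_minGen (I.map (algebraMap B Lp)) Mp j
  choose s hs x hx hsx using fun l => exists_of_mem_Kp I p φp (hg.1 l)
  rw [rk_eq_of_minGen hg]
  have hspan : Kp (I.map (algebraMap B Lq)) Mq j ≤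
      Submodule.span Lq (Set.range fun l => φq (x l)) := by
    intro y hy
    obtain ⟨t, ht, w, hw, htw⟩ := exists_of_mem_Kp I q φq hy
    obtain ⟨a, ha⟩ := Submodule.mem_span_range_iff_exists_fun Lp |>.1 (hg.2.1 (map_mem_Kp I φp hw))
    -- write `a l = b l / u` with the `s l` absorbed
    choose b hb using fun l => IsLocalization.surj p.primeCompl
      (a l * IsLocalization.mk' Lp 1 (⟨s l, hs l⟩ : p.primeCompl))
    let u : B := ∏ l, ((b l).2 : B)
    have hu : u ∈ p.primeCompl := Submonoid.prod_mem _ fun l _ => (b l).2.2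
    have hrel : φp (u • w) = φp (∑ l, ((b l).1 * ∏ l' ∈ Finset.univ.erase l, ((b l').2 : B)) • x l) := by
      rw [map_smul, map_sum, ← ha, Finset.smul_sum]
      refine Finset.sum_congr rfl fun l _ => ?_
      have e1 : φp (x l) = algebraMap B Lp (s l) • g l := by rw [algebraMap_smul, hsx l]
      rw [map_smul, e1, ← algebraMap_smul Lp u, ← algebraMap_smul Lp ((b l).1 * _), smul_smul, smul_smul,
        map_mul, ← hb l, show algebraMap B Lp u = algebraMap B Lp ((b l).2 : B) *
          algebraMap B Lp (∏ l' ∈ Finset.univ.erase l, ((b l').2 : B)) by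
          rw [← map_mul, Finset.mul_prod_erase Finset.univ (fun l' => ((b l').2 : B)) (Finset.mem_univ l)]]
      congr 1
      have e2 : IsLocalization.mk' Lp 1 (⟨s l, hs l⟩ : p.primeCompl) * algebraMap B Lp (s l) = 1 := by
        rw [IsLocalization.mk'_spec Lp 1 (⟨s l, hs l⟩ : p.primeCompl), map_one]
      linear_combination (-(a l * algebraMap B Lp ((b l).2 : B) *
        algebraMap B Lp (∏ l' ∈ Finset.univ.erase l, ((b l').2 : B)))) * e2
    obtain ⟨⟨v, hv⟩, hv'⟩ := IsLocalizedModule.exists_of_eq (S := p.primeCompl) hrel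
    have hv2 : v • u • w = v • ∑ l, ((b l).1 * ∏ l' ∈ Finset.univ.erase l, ((b l').2 : B)) • x l := hv'
    have hunit : IsUnit (algebraMap B Lq (v * u * t)) := IsLocalization.map_units Lq
      (⟨v * u * t, q.primeCompl.mul_mem (q.primeCompl.mul_mem (fun h => hv (hqp h)) (fun h => hu (hqp h))) ht⟩ :
        q.primeCompl)
    rw [← Submodule.smul_mem_iff_of_isUnit _ hunit, algebraMap_smul, mul_smul, htw, ← map_smul, mul_smul, hv2,
      map_smul, map_sum]
    rw [← algebraMap_smul Lq v]
    refine Submodule.smul_mem _ _ (Submodule.sum_mem _ fun l _ => ?_)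
    rw [map_smul, ← algebraMap_smul Lq]
    exact Submodule.smul_mem _ _ (Submodule.subset_span ⟨l, rfl⟩)
  refine rk_eq_of_minGen (g := fun l => φq (x l)) ⟨fun l => map_mem_Kp I φq (hx l), hspan, ?_⟩
  intro a ha
  obtain ⟨e, he, hae⟩ := mem_of_expansion hspan ha
  obtain ⟨v, hv⟩ := IsLocalization.exist_integer_multiples_of_finite q.primeCompl (fun l => a l - e l)
  choose b hb using hv
  have h0 : φq (∑ l, b l • x l) = φq 0 := by
    rw [map_zero, map_sum]
    calc ∑ l, φq (b l • x l) = ∑ l, (v : B) • ((a l - e l) • φq (x l)) := by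
          refine Finset.sum_congr rfl fun l _ => ?_
          rw [map_smul, ← algebraMap_smul Lq (b l), hb l, smul_assoc]
      _ = 0 := by rw [← Finset.smul_sum]; simp [sub_smul, Finset.sum_sub_distrib, hae]
  obtain ⟨⟨v', hv'⟩, hv''⟩ := IsLocalizedModule.exists_of_eq (S := q.primeCompl) h0
  have hv3 : v' • ∑ l, b l • x l = 0 := by simpa using hv''
  have hrel : (∑ l, algebraMap B Lp (v' * b l * s l) • g l) = 0 := by
    rw [← map_zero φp, ← hv3, map_smul, map_sum, Finset.smul_sum]
    refine Finset.sum_congr rfl fun l _ => ?_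
    rw [algebraMap_smul, map_smul, ← hsx l, smul_smul, smul_smul]
  have hK' := hfree c g hg _ (by rw [hrel]; exact zero_mem _)
  intro l
  obtain ⟨⟨i₀, w⟩, hw⟩ := (IsLocalization.mem_map_algebraMap_iff p.primeCompl Lp).1 (hK' l)
  have hw' : algebraMap B Lp (v' * b l * s l * w) = algebraMap B Lp i₀ := by rw [map_mul]; exact hw
  obtain ⟨⟨z, hz⟩, hz'⟩ := (IsLocalization.eq_iff_exists p.primeCompl Lp).1 hw'
  have hmem : z * (v' * b l * s l * w) ∈ q := by
    rw [show z * (v' * b l * s l * w) = z * (i₀ : B) from hz']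
    exact hI (I.mul_mem_left z i₀.2)
  have hbq : b l ∈ q := by
    have hq : q.IsPrime := inferInstance
    have h1 := (hq.mem_or_mem hmem).resolve_left fun h => hz (hqp h)
    have h2 := (hq.mem_or_mem h1).resolve_right fun h => w.2 (hqp h)
    have h3 := (hq.mem_or_mem h2).resolve_right fun h => hs l (hqp h)
    exact (hq.mem_or_mem h3).resolve_left hv'
  have h4 : algebraMap B Lq (v : B) * (a l - e l) ∈ maximalIdeal Lq := by
    rw [← Algebra.smul_def, ← hb l, IsLocalization.AtPrime.to_map_mem_maximal_iff Lq q]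
    exact hbq
  have h5 : a l - e l ∈ maximalIdeal Lq :=
    ((maximalIdeal.isMaximal Lq).isPrime.mem_or_mem h4).resolve_left fun h =>
      v.2 ((IsLocalization.AtPrime.to_map_mem_maximal_iff Lq q _).1 h)
  rw [← sub_add_cancel (a l) (e l)]
  exact add_mem h5 (he l)

end Groth.NormFlatHilb
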